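import Cfsg.Agent.S1304
import Cfsg.Agent.Lib.Components.Basic
import Cfsg.Agent.Lib.Components.PComponent
import Cfsg.Agent.Lib.MaxPairs.Basic
import Cfsg.Agent.Lib.Balance.Permute
import Mathlib.Tactic.Group

/-!
# Components of the centralizer of an involution inside the layer

Owner: helper34. Namespace `Cfsg.Agent.Lib.ComponentPairs`.
-/

set_option autoImplicit false

open Cfsg Subgroup
open Cfsg.Agent.Lib Cfsg.Agent.Lib.Components
open scoped commutatorElement

namespace Cfsg.Agent.Lib.ComponentPairs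

variable {G : Type*} [Group G] [Finite G]

/-- A component of even order is a 2-component. -/
theorem isPComponent_two {K : Subgroup G} (hK : IsComponent K) (heven : Even (Nat.card ↥K)) :
    IsPComponent 2 K := by
  haveI : Fact (Nat.Prime 2) := ⟨Nat.prime_two⟩
  set π := QuotientGroup.mk' (pPrimeCore 2 G) with hπ
  have hne : ¬ K ≤ pPrimeCore 2 G := fun h => by
    have := (Nat.coprime_two_right.1 (Cores.pPrimeCore_coprime (G := G) 2)).of_dvd_nat
      (Subgroup.card_dvd_of_le h)
    exact Nat.not_even_iff_odd.2 this heven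
  haveI : Nontrivial ↥(K.map π) := by
    rw [Subgroup.nontrivial_iff_ne_bot, Ne, Subgroup.map_eq_bot_iff, hπ, QuotientGroup.ker_mk']
    exact hne
  have himg : IsComponent (K.map π) :=
    ⟨hK.1.map (f := π) (QuotientGroup.mk'_surjective _),
      Quasisimple.of_surjective hK.2 (f := π.subgroupMap K) (π.subgroupMap_surjective K)⟩
  obtain ⟨P, hP, hPK⟩ := PComponent.exists_over himg
  have hle : P ≤ K := by
    refine PComponent.le_of_subnormal hP hK.1 ?_
    have h := Subgroup.map_eq_map_iff.1 hPK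
    rw [QuotientGroup.ker_mk'] at h
    exact h ▸ le_sup_left
  rcases Component.isPerfect_eq_of_subnormal_le hK hP.1 hle with h | h
  · exfalso
    refine PComponent.not_le_pPrimeCore hP ?_
    rw [← PComponent.commutator_self hP]
    exact ((Subgroup.commutator_mono le_rfl hle).trans h.le).trans bot_le
  · exact h ▸ hP

/-- A perfect subgroup normalizing `W`, whose elements act on `W` as inner automorphisms by
elements it centralizes, centralizes `W`. -/
theorem le_centralizer_of_inner {L W : Subgroup G} (hperf : ⁅L, L⁆ = L)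
    (h : ∀ l ∈ L, ∃ w ∈ W, (∀ l' ∈ L, l' * w = w * l') ∧ ∀ x ∈ W, l * x * l⁻¹ = w * x * w⁻¹)
    (hLW : L ≤ Subgroup.normalizer (W : Set G)) :
    L ≤ Subgroup.centralizer (W : Set G) := by
  rw [← hperf, Subgroup.commutator_le]
  intro l hl l' hl'
  obtain ⟨w, -, hwL, hw⟩ := h l hl
  refine Subgroup.mem_centralizer_iff.2 fun x hx => ?_
  have hx1 : l'⁻¹ * x * l' ∈ W := by
    simpa using (Subgroup.mem_normalizer_iff.1 (hLW (L.inv_mem hl')) x).1 hx
  have key : ∀ y ∈ W, l * (l' * y * l'⁻¹) * l⁻¹ = l' * (l * y * l⁻¹) * l'⁻¹ := by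
    intro y hy
    rw [hw _ ((Subgroup.mem_normalizer_iff.1 (hLW hl') y).1 hy), hw y hy]
    have e := hwL l' hl'
    calc w * (l' * y * l'⁻¹) * w⁻¹ = (w * l') * y * (w * l')⁻¹ := by group
      _ = _ := by rw [← e]; group
  set y := l'⁻¹ * (l⁻¹ * x * l) * l' with hy
  have hy' : l⁻¹ * x * l ∈ W := by
    simpa using (Subgroup.mem_normalizer_iff.1 (hLW (L.inv_mem hl)) x).1 hx
  have hyW : y ∈ W := by
    simpa [hy] using (Subgroup.mem_normalizer_iff.1 (hLW (L.inv_mem hl')) _).1 hy'
  have h2 := key y hyW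
  rw [hy] at h2
  rw [commutatorElement_def]
  have h3 : x = l' * (l * (l'⁻¹ * (l⁻¹ * x * l) * l') * l⁻¹) * l'⁻¹ := by
    rw [← h2]; group
  have h4 : x = (l * l' * l⁻¹ * l'⁻¹)⁻¹ * x * (l * l' * l⁻¹ * l'⁻¹) := h3.trans (by group)
  calc x * (l * l' * l⁻¹ * l'⁻¹)
      = (l * l' * l⁻¹ * l'⁻¹) *
          ((l * l' * l⁻¹ * l'⁻¹)⁻¹ * x * (l * l' * l⁻¹ * l'⁻¹)) := by group
    _ = _ := by rw [← h4]

variable {t : G}

theorem conj_conj_invol (htt : t * t = 1) (x : G) : t * (t * x * t⁻¹) * t⁻¹ = x := by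
  rw [show t * (t * x * t⁻¹) * t⁻¹ = (t * t) * x * (t * t)⁻¹ by group, htt]
  group

theorem map_conj_conj (htt : t * t = 1) (D : Subgroup G) :
    (D.map (MulAut.conj t).toMonoidHom).map (MulAut.conj t).toMonoidHom = D := by
  rw [Subgroup.map_map]
  conv_rhs => rw [← Subgroup.map_id D]
  congr 1
  ext x
  exact conj_conj_invol htt x

/-- Data on a pair of components interchanged by `t`. -/
theorem pair_commute {D : Subgroup G} (hD : IsComponent D)
    (hne : D.map (MulAut.conj t).toMonoidHom ≠ D) {a b : G} (ha : a ∈ D) (hb : b ∈ D) :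
    Commute a (t * b * t⁻¹) :=
  (Subgroup.mem_centralizer_iff.1
    (Component.le_centralizer_of_ne hD (Component.conj hD t) hne.symm ha) _ ⟨b, hb, rfl⟩).symm

/-- The map `e ↦ e · e^t`. -/
def diag {D : Subgroup G} (hD : IsComponent D)
    (hne : D.map (MulAut.conj t).toMonoidHom ≠ D) : ↥D →* G :=
  MonoidHom.mk' (fun e => (e : G) * (t * (e : G) * t⁻¹)) fun a b => by
    have := (pair_commute hD hne b.2 a.2).eq
    show (a : G) * b * (t * (a * b) * t⁻¹) = _
    calc (a : G) * b * (t * (a * b) * t⁻¹)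
        = (a : G) * ((b : G) * (t * a * t⁻¹)) * (t * b * t⁻¹) := by group
      _ = (a : G) * ((t * a * t⁻¹) * b) * (t * b * t⁻¹) := by rw [this]
      _ = _ := by group

theorem diag_apply {D : Subgroup G} (hD : IsComponent D)
    (hne : D.map (MulAut.conj t).toMonoidHom ≠ D) (e : ↥D) :
    diag hD hne e = (e : G) * (t * (e : G) * t⁻¹) := rfl

/-- Elements of `D D^t` centralized by `t`, modulo the intersection. -/
theorem exists_diag_mul {D : Subgroup G} (hD : IsComponent D)
    (hne : D.map (MulAut.conj t).toMonoidHom ≠ D) (htt : t * t = 1) {x : G}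
    (hx : x ∈ D ⊔ D.map (MulAut.conj t).toMonoidHom) (hxt : x * t = t * x) :
    ∃ (e : ↥D) (z : G), x = diag hD hne e * z ∧ z ∈ D ⊓ D.map (MulAut.conj t).toMonoidHom := by
  have hcom : D ≤ Subgroup.centralizer ((D.map (MulAut.conj t).toMonoidHom : Subgroup G) : Set G) :=
    Component.le_centralizer_of_ne hD (Component.conj hD t) hne.symm
  rw [← SetLike.mem_coe, Subgroup.coe_mul_of_left_le_normalizer_right _ _
    (hcom.trans (Subgroup.centralizer_le_normalizer _))] at hx
  obtain ⟨a, ha, _, ⟨b, hb, rfl⟩, rfl⟩ := hx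
  refine ⟨⟨a, ha⟩, (t * a * t⁻¹)⁻¹ * (t * b * t⁻¹), ?_, ?_⟩
  · show a * (t * b * t⁻¹) = a * (t * a * t⁻¹) * ((t * a * t⁻¹)⁻¹ * (t * b * t⁻¹))
    group
  have h1 : (t * a * t⁻¹) * b = a * (t * b * t⁻¹) := by
    have h2 : t * (a * (t * b * t⁻¹)) * t⁻¹ = a * (t * b * t⁻¹) := by
      have hxt' : a * (t * b * t⁻¹) * t = t * (a * (t * b * t⁻¹)) := hxt
      rw [← hxt']; group
    calc (t * a * t⁻¹) * b = (t * a * t⁻¹) * (t * (t * b * t⁻¹) * t⁻¹) := by
          rw [conj_conj_invol htt]
      _ = t * (a * (t * b * t⁻¹)) * t⁻¹ := by group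
      _ = _ := h2
  have h3 : (t * a * t⁻¹)⁻¹ * (t * b * t⁻¹) = b * a⁻¹ := by
    calc (t * a * t⁻¹)⁻¹ * (t * b * t⁻¹)
        = (t * a * t⁻¹)⁻¹ * ((t * b * t⁻¹) * a) * a⁻¹ := by group
      _ = (t * a * t⁻¹)⁻¹ * (t * a * t⁻¹ * b) * a⁻¹ := by
          rw [← (pair_commute hD hne ha hb).eq, h1]
      _ = _ := by group
  refine ⟨h3 ▸ D.mul_mem hb (D.inv_mem ha), ?_⟩
  exact Subgroup.mul_mem _ (Subgroup.inv_mem _ ⟨a, ha, rfl⟩) ⟨b, hb, rfl⟩

variable (htt : t * t = 1) {L : Subgroup G} (hLt : L ≤ Subgroup.centralizer ({t} : Set G))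
  (hL : IsComponent (L.subgroupOf (Subgroup.centralizer ({t} : Set G))))
  (hLE : L ≤ layer G)
include htt hLt hL hLE

/-- Where a component of `C(t)` inside the layer lives. -/
theorem exists_component : ∃ D : Subgroup G, IsComponent D ∧
    L ≤ D ⊔ D.map (MulAut.conj t).toMonoidHom := by
  have hq : IsQuasisimple ↥L := Quasisimple.of_mulEquiv hL.2 (Subgroup.subgroupOfEquivOfLe hLt)
  have hperf : ⁅L, L⁆ = L := Subgroup.isPerfect_iff.1 hq.1
  by_contra hcon
  push Not at hcon
  have hkey : ∀ D : Subgroup G, IsComponent D →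
      L ≤ Subgroup.centralizer ((D ⊔ D.map (MulAut.conj t).toMonoidHom : Subgroup G) : Set G) := by
    intro D hD
    set W := D ⊔ D.map (MulAut.conj t).toMonoidHom with hW
    have hWn : layer G ≤ Subgroup.normalizer (W : Set G) := by
      refine fun g hg => Balance.mem_normalizer_iff_cj.2 ?_
      show W.map (MulAut.conj g).toMonoidHom = W
      rw [hW, Subgroup.map_sup]
      congr 1
      · exact Balance.mem_normalizer_iff_cj.1 (Layer.layer_le_normalizer hD hg)
      · exact Balance.mem_normalizer_iff_cj.1 (Layer.layer_le_normalizer (Component.conj hD t) hg)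
    have hWE : W ≤ layer G :=
      sup_le (Layer.component_le_layer hD) (Layer.component_le_layer (Component.conj hD t))
    have hWt : ∀ x ∈ W, t * x * t⁻¹ ∈ W := by
      intro x hx
      have h : W.map (MulAut.conj t).toMonoidHom = W := by
        rw [hW, Subgroup.map_sup, map_conj_conj htt, sup_comm]
      exact h.le ⟨x, hx, rfl⟩
    -- `W ∩ C(t)` is centralized by `L`
    set Ct := Subgroup.centralizer ({t} : Set G) with hCt
    have hsn : ((W ⊓ Ct).subgroupOf Ct).IsSubnormal := by
      rw [Subgroup.inf_subgroupOf_right]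
      refine Subgroup.IsSubnormal.step _ ((layer G).subgroupOf Ct) (fun x hx => hWE hx)
        (Subgroup.Normal.isSubnormal (Subgroup.Normal.subgroupOf inferInstance Ct)) ?_
      rw [Subgroup.normal_subgroupOf_iff_le_normalizer
        ((fun x hx => hWE hx) : W.subgroupOf Ct ≤ (layer G).subgroupOf Ct)]
      intro x hx
      have h := hWn (show (x : G) ∈ layer G from hx)
      refine Subgroup.mem_normalizer_iff.2 fun y => ?_
      show (y : G) ∈ W ↔ ((x * y * x⁻¹ : ↥Ct) : G) ∈ W
      exact Subgroup.mem_normalizer_iff.1 h y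
    have hcW : L ≤ Subgroup.centralizer ((W ⊓ Ct : Subgroup G) : Set G) := by
      rcases Component.le_or_commutator_eq_bot hL hsn with h | h
      · exact absurd (fun x hx => (h (show (⟨x, hLt hx⟩ : ↥Ct) ∈ L.subgroupOf Ct from hx)).1)
          (hcon D hD)
      · rw [Components.commutator_subgroupOf_eq_bot_iff inf_le_right hLt,
          Subgroup.commutator_comm, Subgroup.commutator_eq_bot_iff_le_centralizer] at h
        exact h
    -- the elements of `W` fixed modulo `C_W(L)`-centre
    let M : Subgroup G :=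
      { carrier := {w | w ∈ W ∧ ∀ v ∈ W, v * (w⁻¹ * (t * w * t⁻¹)) = w⁻¹ * (t * w * t⁻¹) * v}
        one_mem' := ⟨W.one_mem, fun v _ => by group⟩
        mul_mem' := by
          rintro a b ⟨ha, hac⟩ ⟨hb, hbc⟩
          refine ⟨W.mul_mem ha hb, fun v hv => ?_⟩
          have e : (a * b)⁻¹ * (t * (a * b) * t⁻¹) =
              (a⁻¹ * (t * a * t⁻¹)) * (b⁻¹ * (t * b * t⁻¹)) := by
            calc (a * b)⁻¹ * (t * (a * b) * t⁻¹)
                = b⁻¹ * (a⁻¹ * (t * a * t⁻¹)) * (t * b * t⁻¹) := by group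
              _ = (a⁻¹ * (t * a * t⁻¹)) * b⁻¹ * (t * b * t⁻¹) := by rw [hac b⁻¹ (W.inv_mem hb)]
              _ = _ := by group
          rw [e, ← mul_assoc, hac v hv, mul_assoc, hbc v hv, ← mul_assoc]
        inv_mem' := by
          rintro a ⟨ha, hac⟩
          refine ⟨W.inv_mem ha, fun v hv => ?_⟩
          have e : a⁻¹⁻¹ * (t * a⁻¹ * t⁻¹) = (a⁻¹ * (t * a * t⁻¹))⁻¹ := by
            have := hac a ha
            calc a⁻¹⁻¹ * (t * a⁻¹ * t⁻¹) = a * (a⁻¹ * (t * a * t⁻¹))⁻¹ * a⁻¹ := by group
              _ = _ := by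
                rw [mul_inv_eq_iff_eq_mul]
                exact (show Commute a (a⁻¹ * (t * a * t⁻¹)) from this).inv_right.eq
          rw [e]
          exact ((show Commute v (a⁻¹ * (t * a * t⁻¹)) from hac v hv).inv_right).eq }
    have hMW : M ≤ W := fun w hw => hw.1
    -- the other components
    set V := sSup {K : Subgroup G | IsComponent K ∧ K ≠ D ∧ K ≠ D.map (MulAut.conj t).toMonoidHom}
      with hV
    have hVW : V ≤ Subgroup.centralizer (W : Set G) := sSup_le fun K hK => by
      rw [Subgroup.le_centralizer_iff]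
      exact sup_le (Component.le_centralizer_of_ne hD hK.1 hK.2.1.symm)
        (Component.le_centralizer_of_ne (Component.conj hD t) hK.1 hK.2.2.symm)
    have hEWV : layer G ≤ W ⊔ V := sSup_le fun K hK => by
      by_cases h1 : K = D
      · exact h1 ▸ le_sup_left.trans le_sup_left
      by_cases h2 : K = D.map (MulAut.conj t).toMonoidHom
      · exact h2 ▸ le_sup_right.trans le_sup_left
      · exact (le_sSup (show K ∈ {K : Subgroup G | IsComponent K ∧ K ≠ D ∧
          K ≠ D.map (MulAut.conj t).toMonoidHom} from ⟨hK, h1, h2⟩)).trans le_sup_right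
    have hLM : ⁅M, L⁆ ≤ W ⊓ Ct := by
      rw [Subgroup.commutator_le]
      rintro w ⟨hw, hwc⟩ l hl
      rw [commutatorElement_def]
      have hlE := hLE hl
      have hlw : l * w⁻¹ * l⁻¹ ∈ W := (Subgroup.mem_normalizer_iff.1 (hWn hlE) _).1 (W.inv_mem hw)
      refine ⟨by simpa [mul_assoc] using W.mul_mem hw hlw, ?_⟩
      refine Subgroup.mem_centralizer_singleton_iff.2 ?_
      set z := w⁻¹ * (t * w * t⁻¹) with hz
      have hzl : z * (l * w⁻¹ * l⁻¹) = (l * w⁻¹ * l⁻¹) * z := (hwc _ hlw).symm
      have hlt : t * l * t⁻¹ = l :=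
        mul_inv_eq_iff_eq_mul.2 (Subgroup.mem_centralizer_singleton_iff.1 (hLt hl)).symm
      have hzw : t * w * t⁻¹ = w * z := by rw [hz]; group
      have hlz : l * z * l⁻¹ = z := by
        have h2 : z ∈ W := W.mul_mem (W.inv_mem hw) (hWt w hw)
        have hle : layer G ≤ Subgroup.centralizer ({z} : Set G) := hEWV.trans (sup_le
          (fun u hu => Subgroup.mem_centralizer_singleton_iff.2 (hwc u hu))
          (fun u hu => Subgroup.mem_centralizer_singleton_iff.2
            (Subgroup.mem_centralizer_iff.1 (hVW hu) z h2).symm))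
        exact mul_inv_eq_iff_eq_mul.2 (Subgroup.mem_centralizer_singleton_iff.1 (hle hlE))
      have : t * (w * l * w⁻¹ * l⁻¹) * t⁻¹ = w * l * w⁻¹ * l⁻¹ := by
        calc t * (w * l * w⁻¹ * l⁻¹) * t⁻¹
            = (t * w * t⁻¹) * (t * l * t⁻¹) * (t * w * t⁻¹)⁻¹ * (t * l * t⁻¹)⁻¹ := by group
          _ = w * (z * (l * z⁻¹ * l⁻¹)) * (l * w⁻¹ * l⁻¹) := by rw [hlt, hzw]; group
          _ = _ := by rw [show l * z⁻¹ * l⁻¹ = z⁻¹ by rw [← conj_inv, hlz]]; group
      exact (mul_inv_eq_iff_eq_mul.1 this).symm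
    have hMc : L ≤ Subgroup.centralizer (M : Set G) := by
      have h : ⁅⁅M, L⁆, L⁆ = ⊥ := by
        rw [Subgroup.commutator_eq_bot_iff_le_centralizer]
        exact hLM.trans (Subgroup.le_centralizer_iff.1 hcW)
      have := Components.commutator_eq_bot_of_perfect hperf h
      rw [Subgroup.commutator_comm, Subgroup.commutator_eq_bot_iff_le_centralizer] at this
      exact this
    have hVt : ∀ v ∈ V, t * v * t⁻¹ ∈ V := by
      intro v hv
      have h : V.map (MulAut.conj t).toMonoidHom ≤ V := by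
        rw [Subgroup.map_le_iff_le_comap]
        refine sSup_le fun K hK => Subgroup.map_le_iff_le_comap.1 (le_sSup ?_)
        refine ⟨Component.conj hK.1 t, fun h => hK.2.2 ?_, fun h => hK.2.1
          (Subgroup.map_injective (MulAut.conj t).injective h)⟩
        rw [← h, map_conj_conj htt]
      exact h ⟨v, hv, rfl⟩
    refine le_centralizer_of_inner hperf (fun l hl => ?_) (hLE.trans hWn)
    have hl' := hEWV (hLE hl)
    rw [← SetLike.mem_coe, Subgroup.coe_mul_of_right_le_normalizer_left _ _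
      (hVW.trans (Subgroup.centralizer_le_normalizer _))] at hl'
    obtain ⟨w, hw, v, hv, rfl⟩ := hl'
    have hwM : w ∈ M := by
      refine ⟨hw, fun u hu => ?_⟩
      have hlt : t * (w * v) * t⁻¹ = w * v :=
        mul_inv_eq_iff_eq_mul.2 (Subgroup.mem_centralizer_singleton_iff.1 (hLt hl)).symm
      have e : w⁻¹ * (t * w * t⁻¹) = v * (t * v * t⁻¹)⁻¹ := by
        rw [inv_mul_eq_iff_eq_mul, eq_comm, ← mul_assoc, mul_inv_eq_iff_eq_mul, ← hlt]
        group
      rw [e]
      exact Subgroup.mem_centralizer_iff.1 (hVW (V.mul_mem hv (V.inv_mem (hVt v hv)))) u hu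
    refine ⟨w, hw, fun l' hl' => (Subgroup.mem_centralizer_iff.1 (hMc hl') w hwM).symm,
      fun x hx => ?_⟩
    have hc := Subgroup.mem_centralizer_iff.1 (hVW hv) x hx
    calc w * v * x * (w * v)⁻¹ = w * (v * x * v⁻¹) * w⁻¹ := by group
      _ = _ := by rw [← hc, mul_inv_cancel_right]
  have hall : L ≤ Subgroup.centralizer (layer G : Set G) := by
    rw [Subgroup.le_centralizer_iff]
    exact sSup_le fun D hD => le_sup_left.trans (Subgroup.le_centralizer_iff.1 (hkey D hD))
  have : L ≤ Subgroup.centralizer (L : Set G) :=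
    hall.trans (Subgroup.centralizer_le (by exact_mod_cast hLE))
  exact Quasisimple.not_isMulCommutative hq (Subgroup.le_centralizer_iff_isMulCommutative.1 this)

/-- A component of `C(t)` inside the layer: a component of `G`, or properly inside a `t`-invariant
one moved by `t`, or the diagonal of two components interchanged by `t`. -/
theorem trichotomy : ∃ D : Subgroup G, IsComponent D ∧
    (L = D ∨ (L < D ∧ D = ⁅D, Subgroup.zpowers t⁆) ∨
      ∃ hD : IsComponent D, ∃ hne : D.map (MulAut.conj t).toMonoidHom ≠ D,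
        L = (diag hD hne).range ∧
        ∀ K : Subgroup G, K ≤ Subgroup.centralizer ({t} : Set G) →
          K ≤ D ⊔ D.map (MulAut.conj t).toMonoidHom →
          IsComponent (K.subgroupOf (Subgroup.centralizer ({t} : Set G))) → K = L) := by
  set Ct := Subgroup.centralizer ({t} : Set G) with hCt
  have hq : ∀ K : Subgroup G, K ≤ Ct → IsComponent (K.subgroupOf Ct) → IsQuasisimple ↥K :=
    fun K hle hK => Quasisimple.of_mulEquiv hK.2 (Subgroup.subgroupOfEquivOfLe hle)
  obtain ⟨D, hD, hLW⟩ := exists_component htt hLt hL hLE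
  refine ⟨D, hD, ?_⟩
  by_cases hfix : D.map (MulAut.conj t).toMonoidHom = D
  · rw [hfix, sup_idem] at hLW
    by_cases hDt : D ≤ Ct
    · left
      rcases Component.eq_or_commutator_eq_bot hL (Component.subgroupOf hD hDt) with h | h
      · have := congrArg (Subgroup.map Ct.subtype) h
        rwa [Subgroup.map_subgroupOf_eq_of_le hLt, Subgroup.map_subgroupOf_eq_of_le hDt] at this
      · exfalso
        rw [Components.commutator_subgroupOf_eq_bot_iff hLt hDt,
          Subgroup.commutator_eq_bot_iff_le_centralizer] at h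
        exact Quasisimple.not_isMulCommutative (hq L hLt hL)
          (Subgroup.le_centralizer_iff_isMulCommutative.1
            (h.trans (Subgroup.centralizer_le (by exact_mod_cast hLW))))
    · refine Or.inr (Or.inl ⟨lt_of_le_of_ne hLW fun h => hDt (h ▸ hLt), ?_⟩)
      have htD : t ∈ Subgroup.normalizer (D : Set G) := Balance.mem_normalizer_iff_cj.2 hfix
      have hle : ⁅D, Subgroup.zpowers t⁆ ≤ D := by
        rw [Subgroup.commutator_le]
        intro d hd u hu
        rw [commutatorElement_def, mul_assoc, mul_assoc, ← mul_assoc u]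
        exact D.mul_mem hd ((Subgroup.mem_normalizer_iff.1
          ((Subgroup.zpowers_le.2 htD) hu) _).1 (D.inv_mem hd))
      have hn : ((⁅D, Subgroup.zpowers t⁆).subgroupOf D).Normal :=
        (Subgroup.normal_subgroupOf_iff_le_normalizer hle).2
          (Subgroup.normalizer_commutator_ge_left _ _)
      rcases Quasisimple.normal_le_center_or_eq_top hD.2 hn with hc | ht
      · exfalso
        refine hDt fun d hd => ?_
        let α : ↥D ≃* ↥D :=
          ((MulAut.conj t).subgroupMap D).trans (MulEquiv.subgroupCongr hfix)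
        have hα : ∀ e : ↥D, ((α e : ↥D) : G) = t * (e : G) * t⁻¹ := fun e => rfl
        have h := Cfsg.Agent.S1304.result hD.2.1.commutator_eq_top α (fun e => hc (show
          ((α e * e⁻¹ : ↥D) : G) ∈ ⁅D, Subgroup.zpowers t⁆ by
            rw [Subgroup.coe_mul, Subgroup.coe_inv, hα, Subgroup.commutator_comm]
            exact Subgroup.commutator_mem_commutator (Subgroup.mem_zpowers t) e.2))
        have h' := congrArg Subtype.val (h ⟨d, hd⟩)
        rw [hα] at h'
        exact Subgroup.mem_centralizer_singleton_iff.2 (mul_inv_eq_iff_eq_mul.1 h').symm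
      · refine le_antisymm (fun d hd => ?_) hle
        exact (ht.ge (Subgroup.mem_top (⟨d, hd⟩ : ↥D)) :)
  · refine Or.inr (Or.inr ⟨hD, hfix, ?_⟩)
    set Δ := (diag hD hfix).range with hΔ
    have hsub : ∀ K : Subgroup G, K ≤ Ct → K ≤ D ⊔ D.map (MulAut.conj t).toMonoidHom →
        IsComponent (K.subgroupOf Ct) → K = Δ := by
      intro K hKt hKW hK
      have hKq := hq K hKt hK
      have hle : K ≤ Δ := by
        rw [← Subgroup.isPerfect_iff.1 hKq.1, Subgroup.commutator_le]
        intro x hx y hy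
        obtain ⟨e, z, rfl, hz⟩ := exists_diag_mul hD hfix htt (hKW hx)
          (Subgroup.mem_centralizer_singleton_iff.1 (hKt hx))
        obtain ⟨e', z', rfl, hz'⟩ := exists_diag_mul hD hfix htt (hKW hy)
          (Subgroup.mem_centralizer_singleton_iff.1 (hKt hy))
        refine ⟨⁅e, e'⁆, ?_⟩
        have hcz : ∀ u : G, u ∈ D ⊓ D.map (MulAut.conj t).toMonoidHom →
            ∀ v ∈ D ⊔ D.map (MulAut.conj t).toMonoidHom, Commute u v := by
          intro u hu v hv
          have hle : D ⊔ D.map (MulAut.conj t).toMonoidHom ≤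
              Subgroup.centralizer ({u} : Set G) := by
            refine sup_le (fun w hw => ?_) (fun w hw => ?_)
            · exact Subgroup.mem_centralizer_singleton_iff.2 (Subgroup.mem_centralizer_iff.1
                (Component.le_centralizer_of_ne hD (Component.conj hD t) (Ne.symm hfix) hw) u hu.2).symm
            · exact Subgroup.mem_centralizer_singleton_iff.2 (Subgroup.mem_centralizer_iff.1
                (Component.le_centralizer_of_ne (Component.conj hD t) hD hfix hw) u hu.1).symm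
          exact (Subgroup.mem_centralizer_singleton_iff.1 (hle hv)).symm
        have hmem : ∀ f : ↥D, diag hD hfix f ∈ D ⊔ D.map (MulAut.conj t).toMonoidHom :=
          fun f => Subgroup.mul_mem_sup f.2 ⟨f, f.2, rfl⟩
        have h1 : Commute z (diag hD hfix e') := hcz z hz _ (hmem e')
        have h2 : Commute z (diag hD hfix e)⁻¹ := (hcz z hz _ (hmem e)).inv_right
        have h3 : Commute z' (diag hD hfix e) := hcz z' hz' _ (hmem e)
        have h4 : Commute z' z := hcz z' hz' _ (Subgroup.mem_sup_left hz.1)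
        rw [map_commutatorElement]
        generalize diag hD hfix e = a, diag hD hfix e' = b at *
        rw [commutatorElement_def, commutatorElement_def]
        calc a * b * a⁻¹ * b⁻¹ = a * b * (z * z⁻¹) * a⁻¹ * (z' * z'⁻¹) * b⁻¹ := by group
          _ = a * (b * z) * (z⁻¹ * a⁻¹) * z' * z'⁻¹ * b⁻¹ := by group
          _ = a * (z * b) * (z⁻¹ * a⁻¹) * z' * z'⁻¹ * b⁻¹ := by rw [h1.eq]
          _ = (a * z) * b * z⁻¹ * (a⁻¹ * z') * z'⁻¹ * b⁻¹ := by group
          _ = (a * z) * b * z⁻¹ * (z' * a⁻¹) * z'⁻¹ * b⁻¹ := by rw [h3.inv_right.eq]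
          _ = (a * z) * b * (z⁻¹ * z') * a⁻¹ * z'⁻¹ * b⁻¹ := by group
          _ = (a * z) * b * (z' * z⁻¹) * a⁻¹ * z'⁻¹ * b⁻¹ := by rw [h4.inv_right.eq]
          _ = _ := by group
      haveI : Nontrivial ↥K := Quasisimple.nontrivial hKq
      haveI : Nontrivial ↥Δ := (Subgroup.inclusion_injective hle).nontrivial
      have hΔq : IsQuasisimple ↥Δ :=
        Quasisimple.of_surjective hD.2 (f := (diag hD hfix).rangeRestrict)
          (diag hD hfix).rangeRestrict_surjective
      have hΔt : Δ ≤ Ct := by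
        rintro _ ⟨e, rfl⟩
        refine Subgroup.mem_centralizer_singleton_iff.2 ?_
        have hc := (pair_commute hD hfix e.2 e.2).eq
        rw [diag_apply]
        calc (e : G) * (t * e * t⁻¹) * t = (e : G) * t * e := by group
          _ = (t * t) * e * t⁻¹ * e := by rw [htt, inv_eq_of_mul_eq_one_right htt, one_mul]
          _ = t * ((t * e * t⁻¹) * e) := by group
          _ = _ := by rw [hc]
      rcases Quasisimple.subnormal_le_center_or_eq_top hΔq
        (MaxPairs.isSubnormal_subgroupOf (D := Δ) hK.1 hΔt) with hc | ht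
      · exfalso
        refine Quasisimple.not_isMulCommutative hKq ⟨⟨fun a b => Subtype.ext ?_⟩⟩
        have h := Subgroup.mem_center_iff.1
          (hc (show (⟨b, hle b.2⟩ : ↥Δ) ∈ K.subgroupOf Δ from b.2)) ⟨a, hle a.2⟩
        exact (congrArg (Subtype.val : ↥Δ → G) h :)
      · exact le_antisymm hle fun x hx => (ht.ge (Subgroup.mem_top (⟨x, hx⟩ : ↥Δ)) :)
    have hLΔ := hsub L hLt hLW hL
    exact ⟨hLΔ, fun K h1 h2 h3 => (hsub K h1 h2 h3).trans hLΔ.symm⟩

end Cfsg.Agent.Lib.ComponentPairs
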